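import Groth.Agent.Lib.DelLift8.Open
import Mathlib.Data.Int.Interval

/-! Deligne's colimit formula at the level of complexes. -/

set_option autoImplicit false
set_option linter.style.haveILetI false
set_option backward.isDefEq.respectTransparency false
set_option backward.isDefEq.respectTransparency.types false

universe u

open CategoryTheory CategoryTheory.Limits AlgebraicGeometry

namespace Groth.Agent.DelLift8

open Groth.Agent.IdealMulL

/-- A monotone family of properties, trivial outside a bounded range, holds uniformly. -/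
theorem exists_uniform (P : ℤ → ℕ → Prop) (lo hi : ℤ) (h : ∀ p, ∃ n₀, ∀ n, n₀ ≤ n → P p n)
    (h0 : ∀ p n, p < lo ∨ hi < p → P p n) (m : ℕ) : ∃ n, m ≤ n ∧ ∀ p, P p n := by
  classical
  choose f hf using h
  refine ⟨max m ((Finset.Icc lo hi).sup f), le_max_left _ _, fun p => ?_⟩
  by_cases hp : p ∈ Finset.Icc lo hi
  · exact hf p _ ((Finset.le_sup hp).trans (le_max_right _ _))
  · exact h0 p _ (by rw [Finset.mem_Icc] at hp; omega)

variable {U X : Scheme.{u}} (j : U ⟶ X) [IsOpenImmersion j] [AlgebraicGeometry.IsNoetherian X] {I : X.IdealSheafData}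
  (hI : I.supportSetᶜ = Set.range j) {F : CochainComplex X.Modules ℤ} {lo hi : ℤ}
  (hF : DCoh.VanishesOutside F lo hi) (hFc : ∀ q : ℤ, Coh.IsCoh (F.X q))
  {J : CochainComplex X.Modules ℤ} (hJ : ∀ n, Coh.IsQCoh (J.X n))

/-- Termwise restriction of complexes. -/
noncomputable abbrev res : CochainComplex X.Modules ℤ ⥤ CochainComplex U.Modules ℤ :=
  (Scheme.Modules.restrictFunctor j).mapHomologicalComplex (ComplexShape.up ℤ)

omit [AlgebraicGeometry.IsNoetherian X] in
include hF in
theorem isZero_K (n : ℕ) {p : ℤ} (hp : p < lo ∨ hi < p) : IsZero ((DelAR8.K I F n).X p) := by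
  haveI := DelAR8.mono_ιK_f I F n p
  exact IsZero.of_mono ((DelAR8.ιK I F n).f p) (hF p hp)

include hI hF hFc hJ in
/-- Degreewise killing, uniformly in the degree. -/
theorem exists_kill_all (n : ℕ) (sh : ℤ → ℤ)
    (ψ : ∀ p, (DelAR8.K I F n).X p ⟶ J.X (sh p))
    (hψ : ∀ p, (Scheme.Modules.restrictFunctor j).map (ψ p) = 0) :
    ∃ N, n ≤ N ∧ ∀ (c : DelAR8.K I F N ⟶ DelAR8.K I F n), c ≫ DelAR8.ιK I F n = DelAR8.ιK I F N →
      ∀ p, c.f p ≫ ψ p = 0 := by
  obtain ⟨N, hN, h⟩ := exists_uniform (fun p N => ∀ c : (DelAR8.K I F N).X p ⟶ (DelAR8.K I F n).X p,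
      c ≫ (DelAR8.ιK I F n).f p = (DelAR8.ιK I F N).f p → c ≫ ψ p = 0) lo hi
    (fun p => exists_kill j hI (F.X p) (J.X (sh p)) (hFc p) (hJ _) n (ψ p) (hψ p))
    (fun p N hp c _ => (isZero_K hF N hp).eq_of_src _ _) n
  exact ⟨N, hN, fun c hc p => h p (c.f p) (by rw [← HomologicalComplex.comp_f, hc])⟩

include hI hF hFc hJ in
theorem exists_lift (a : (res j).obj F ⟶ (res j).obj J) :
    ∃ (n : ℕ) (φ : DelAR8.K I F n ⟶ J), (res j).map φ = (res j).map (DelAR8.ιK I F n) ≫ a := by
  classical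
  obtain ⟨n, -, h⟩ := exists_uniform (fun p n => ∃ h : (DelAR8.K I F n).X p ⟶ J.X p,
      (Scheme.Modules.restrictFunctor j).map h =
        (Scheme.Modules.restrictFunctor j).map ((DelAR8.ιK I F n).f p) ≫ a.f p) lo hi
    (fun p => exists_ext j hI (F.X p) (J.X p) (hFc p) (hJ _) (a.f p))
    (fun p n hp => ⟨0, ((Scheme.Modules.restrictFunctor j).map_isZero (isZero_K hF n hp)).eq_of_src _ _⟩) 0
  choose h hh using h
  let δ : ∀ p, (DelAR8.K I F n).X p ⟶ J.X (p + 1) :=
    fun p => (DelAR8.K I F n).d p (p + 1) ≫ h (p + 1) - h p ≫ J.d p (p + 1)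
  have hδ : ∀ p, (Scheme.Modules.restrictFunctor j).map (δ p) = 0 := by
    intro p
    simp only [δ, Functor.map_sub, Functor.map_comp, hh]
    rw [sub_eq_zero, ← Category.assoc, ← Functor.map_comp, ← HomologicalComplex.Hom.comm]
    simp only [Functor.map_comp, Category.assoc]
    congr 1
    exact (a.comm p (p + 1)).symm
  obtain ⟨N, hN, hk⟩ := exists_kill_all j hI hF hFc hJ n (fun p => p + 1) δ hδ
  obtain ⟨c, hc⟩ := DelAR8.exists_trans I F (fun q => (hFc q).1) hN
  have hcp : ∀ p, c.f p ≫ (DelAR8.ιK I F n).f p = (DelAR8.ιK I F N).f p :=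
    fun p => by rw [← HomologicalComplex.comp_f, hc]
  refine ⟨N, { f := fun p => c.f p ≫ h p, comm' := ?_ }, ?_⟩
  · rintro p q (rfl : p + 1 = q)
    have := hk c hc p
    simp only [δ, Preadditive.comp_sub, sub_eq_zero] at this
    rw [Category.assoc, ← this, ← Category.assoc, HomologicalComplex.Hom.comm, Category.assoc]
  · refine HomologicalComplex.hom_ext _ _ fun p => ?_
    change (Scheme.Modules.restrictFunctor j).map (c.f p ≫ h p) =
      (Scheme.Modules.restrictFunctor j).map ((DelAR8.ιK I F N).f p) ≫ a.f p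
    rw [← hcp p, Functor.map_comp, Functor.map_comp, Category.assoc, hh]

include hI hF hFc hJ in
theorem exists_homotopy {n : ℕ} (φ : DelAR8.K I F n ⟶ J) (H : Homotopy ((res j).map φ) 0) :
    ∃ m, n ≤ m ∧ ∀ t : DelAR8.K I F m ⟶ DelAR8.K I F n, t ≫ DelAR8.ιK I F n = DelAR8.ιK I F m →
      Nonempty (Homotopy (t ≫ φ) 0) := by
  classical
  haveI hiso : ∀ p, IsIso ((Scheme.Modules.restrictFunctor j).map ((DelAR8.ιK I F n).f p)) :=
    fun p => isIso_restrict_idl j hI (F.X p) (hFc p).1 n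
  obtain ⟨m, hm, h⟩ := exists_uniform (fun p m => ∀ q, (ComplexShape.up ℤ).Rel q p →
      ∃ s : (DelAR8.K I F m).X p ⟶ J.X q,
        (Scheme.Modules.restrictFunctor j).map s = (Scheme.Modules.restrictFunctor j).map ((DelAR8.ιK I F m).f p) ≫
          inv ((Scheme.Modules.restrictFunctor j).map ((DelAR8.ιK I F n).f p)) ≫ H.hom p q) lo hi
    (fun p => by
      obtain ⟨n₀, hn₀⟩ := exists_ext j hI (F.X p) (J.X (p - 1)) (hFc p) (hJ _)
        (inv ((Scheme.Modules.restrictFunctor j).map ((DelAR8.ιK I F n).f p)) ≫ H.hom p (p - 1))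
      refine ⟨n₀, fun m hm q (hq : q + 1 = p) => ?_⟩
      obtain rfl : q = p - 1 := by omega
      exact hn₀ m hm)
    (fun p m hp q _ => ⟨0, ((Scheme.Modules.restrictFunctor j).map_isZero (isZero_K hF m hp)).eq_of_src _ _⟩) n
  choose s hs using h
  obtain ⟨t, ht⟩ := DelAR8.exists_trans I F (fun q => (hFc q).1) hm
  have htp : ∀ p, t.f p ≫ (DelAR8.ιK I F n).f p = (DelAR8.ιK I F m).f p :=
    fun p => by rw [← HomologicalComplex.comp_f, ht]
  let e : DelAR8.K I F m ⟶ J := t ≫ φ - Homotopy.nullHomotopicMap' s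
  have hmap : (res j).map t ≫ Homotopy.nullHomotopicMap' (fun p q (_ : (ComplexShape.up ℤ).Rel q p) => H.hom p q) =
      (res j).map (Homotopy.nullHomotopicMap' s) := by
    rw [Homotopy.comp_nullHomotopicMap', Homotopy.map_nullHomotopicMap']
    congr 1
    funext p q hq
    change (Scheme.Modules.restrictFunctor j).map (t.f p) ≫ H.hom p q = (Scheme.Modules.restrictFunctor j).map (s p q hq)
    rw [hs, ← htp, Functor.map_comp, Category.assoc, IsIso.hom_inv_id_assoc]
  have hH : (res j).map φ = Homotopy.nullHomotopicMap' (fun p q (_ : (ComplexShape.up ℤ).Rel q p) => H.hom p q) := by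
    refine HomologicalComplex.hom_ext _ _ fun p => ?_
    rw [H.comm p, Homotopy.nullHomotopicMap'_f (show (ComplexShape.up ℤ).Rel (p - 1) p by simp)
      (show (ComplexShape.up ℤ).Rel p (p + 1) by simp)]
    simp [dNext_eq _ (show (ComplexShape.up ℤ).Rel p (p + 1) by simp),
      prevD_eq _ (show (ComplexShape.up ℤ).Rel (p - 1) p by simp)]
  have he : (res j).map e = 0 := by
    simp only [e, Functor.map_sub, Functor.map_comp, hH, hmap, sub_self]
  obtain ⟨N, hN, hk⟩ := exists_kill_all j hI hF hFc hJ m id (fun p => e.f p) (fun p => by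
    change ((res j).map e).f p = 0
    rw [he]
    rfl)
  refine ⟨N, hm.trans hN, fun t' ht' => ?_⟩
  obtain ⟨c, hc⟩ := DelAR8.exists_trans I F (fun q => (hFc q).1) hN
  have htc : t' = c ≫ t := by
    refine HomologicalComplex.hom_ext _ _ fun p => ?_
    haveI := DelAR8.mono_ιK_f I F n p
    rw [← cancel_mono ((DelAR8.ιK I F n).f p), ← HomologicalComplex.comp_f, ← HomologicalComplex.comp_f,
      Category.assoc, ht', ht, hc]
  have hce : c ≫ e = 0 := HomologicalComplex.hom_ext _ _ fun p => by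
    rw [HomologicalComplex.comp_f]
    exact hk c hc p
  have e1 : t' ≫ φ = c ≫ Homotopy.nullHomotopicMap' s := by
    rw [htc, Category.assoc]
    simpa [e, Preadditive.comp_sub, sub_eq_zero] using hce
  exact ⟨(Homotopy.ofEq e1).trans (((Homotopy.nullHomotopy' s).compLeft c).trans (Homotopy.ofEq comp_zero))⟩

end Groth.Agent.DelLift8
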