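import Groth.Agent.Lib.QCN9.Plus

/-! Bounded below complexes of injective quasi-coherent modules represent `D⁺_qc` of a locally Noetherian scheme. -/

set_option autoImplicit false
set_option linter.style.haveILetI false
set_option backward.isDefEq.respectTransparency false
set_option backward.isDefEq.respectTransparency.types false

universe u

open CategoryTheory CategoryTheory.Limits AlgebraicGeometry

namespace Groth.Agent.DelLift8

open Groth.Agent.QCD Groth.Agent.QCN9

attribute [local instance] HasDerivedCategory.standard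

theorem exists_resolution {X : Scheme.{u}} [IsLocallyNoetherian X] (L : DCoh.D X) (a : ℤ) [L.IsGE a]
    (hL : DCoh.IsQCohD L) :
    ∃ J : CochainComplex X.Modules ℤ, J.IsStrictlyGE a ∧ (∀ n, Injective (J.X n)) ∧ (∀ n, Coh.IsQCoh (J.X n)) ∧
      Nonempty (DerivedCategory.Q.obj J ≅ L) := by
  haveI : IsGrothendieckAbelian.{u} (QC X) := QCoh8.isGrothendieckAbelian_qcoh X
  obtain ⟨M, hM, ⟨eM⟩⟩ := exists_Φ_iso_of_isGE L a hL
  haveI := hM
  obtain ⟨K, hK, ⟨eK⟩⟩ := DerivedCategory.exists_iso_Q_obj_of_isGE M a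
  obtain ⟨J, i, hi, hJ, hJa⟩ := CochainComplex.Plus.modelCategoryQuillen.exists_quasiIso_injective K a
  haveI := hJ; haveI := hJa; haveI := hi
  refine ⟨((qP X).ι.mapHomologicalComplex (ComplexShape.up ℤ)).obj J,
    inferInstanceAs (CochainComplex.IsStrictlyGE
      ((((qP X).ι.mapHomologicalComplex (ComplexShape.up ℤ)).obj J : CochainComplex X.Modules ℤ)) a), fun n => ?_,
    fun n => (J.X n).property, ⟨?_⟩⟩
  · haveI := hJ n
    exact InjMod.injective_obj_of_injective_qcoh (J.X n)
  · exact ((qP X).ι.mapDerivedCategoryFactors.app J).symm ≪≫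
      (Φ X).mapIso ((asIso (DerivedCategory.Q.map i)).symm ≪≫ eK.symm) ≪≫ eM

end Groth.Agent.DelLift8
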