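import Groth.Agent.Lib.IdealMul.Generic
import Groth.Agent.Lib.IdealMul.Extend
import Groth.Agent.Lib.DelAR8.Main
import Groth.Agent.Lib.InjMod.Scheme

/-! Extension and killing lemmas for the Deligne system along an arbitrary open immersion. -/

set_option autoImplicit false
set_option linter.style.haveILetI false
set_option backward.isDefEq.respectTransparency false

universe u

open CategoryTheory CategoryTheory.Limits AlgebraicGeometry

namespace Groth.Agent.DelLift8

open Groth.Agent.IdealMulL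

variable {U X : Scheme.{u}} (j : U ⟶ X) [IsOpenImmersion j] (I : X.IdealSheafData)

/-- Restriction along `j` is restriction to the range followed by a fully faithful functor. -/
theorem exists_transfer : ∃ (E : (j.opensRange : Scheme.{u}).Modules ⥤ U.Modules),
    E.IsEquivalence ∧ Nonempty (Scheme.Modules.restrictFunctor j ≅
      Scheme.Modules.restrictFunctor j.opensRange.ι ⋙ E) := by
  let e := j.isoOpensRange
  let E := Scheme.Modules.restrictFunctor e.hom
  let E' := Scheme.Modules.restrictFunctor e.inv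
  let u : 𝟭 _ ≅ E ⋙ E' := (Scheme.Modules.restrictFunctorId).symm ≪≫
    Scheme.Modules.restrictFunctorCongr (e.inv_hom_id).symm ≪≫ Scheme.Modules.restrictFunctorComp _ _
  let c : E' ⋙ E ≅ 𝟭 _ := (Scheme.Modules.restrictFunctorComp _ _).symm ≪≫
    Scheme.Modules.restrictFunctorCongr (e.hom_inv_id) ≪≫ Scheme.Modules.restrictFunctorId
  let eq := CategoryTheory.Equivalence.mk E E' u c
  haveI : E.IsEquivalence := eq.isEquivalence_functor
  exact ⟨E, inferInstance,
    ⟨Scheme.Modules.restrictFunctorCongr j.isoOpensRange_hom_ι.symm ≪≫ Scheme.Modules.restrictFunctorComp _ _⟩⟩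

theorem injective_restrict' (J : X.Modules) [Injective J] :
    Injective ((Scheme.Modules.restrictFunctor j).obj J) := by
  obtain ⟨E, hE, ⟨α⟩⟩ := exists_transfer j
  haveI := hE
  haveI := InjMod.injective_restrict j.opensRange J
  exact Injective.of_iso (α.app J).symm
    (E.asEquivalence.symm.toAdjunction.map_injective ((Scheme.Modules.restrictFunctor j.opensRange.ι).obj J) inferInstance)

variable {I}

theorem hU_of (hI : I.supportSetᶜ = Set.range j) : (j.opensRange : Set X) = (I.support : Set X)ᶜ := hI.symm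

theorem notMem_support_pow {x : X} (hx : x ∉ (I.support : Set X)) (n : ℕ) : x ∉ ((I ^ n).support : Set X) := by
  obtain ⟨W, hW, hxW, -⟩ := exists_isAffineOpen_mem_and_subset (show x ∈ (⊤ : X.Opens) from trivial)
  rw [SetLike.mem_coe, Scheme.IdealSheafData.mem_support_iff_of_mem (U := ⟨W, hW⟩) hxW,
    Scheme.mem_zeroLocus_iff] at hx ⊢
  intro h
  push Not at hx
  obtain ⟨b, hb, hxb⟩ := hx
  refine h (b ^ n) (by rw [SetLike.mem_coe, ideal_pow_apply]; exact Ideal.pow_mem_pow hb n) ?_
  exact (X.mem_basicOpen _ x hxW).2 (by rw [map_pow]; exact ((X.mem_basicOpen _ x hxW).1 hxb).pow n)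

variable (hI : I.supportSetᶜ = Set.range j)
include hI

theorem isIso_restrict_idl (G : X.Modules) (hG : Coh.IsQCoh G) (n : ℕ) :
    IsIso ((Scheme.Modules.restrictFunctor j).map (Dual3.idealMulι (I ^ n) G)) := by
  obtain ⟨E, -, ⟨α⟩⟩ := exists_transfer j
  haveI := hG
  haveI := isIso_restrict_map (Dual3.idealMulι (I ^ n) G) j.opensRange (fun x hx =>
    bijective_stL_idl (I ^ n) (notMem_support_pow (by rw [← Set.mem_compl_iff, ← hU_of j hI]; exact hx) n))
  refine (NatIso.isIso_map_iff α _).2 ?_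
  exact inferInstanceAs (IsIso (E.map ((Scheme.Modules.restrictFunctor j.opensRange.ι).map (Dual3.idealMulι (I ^ n) G))))

variable [IsNoetherian X]

/-- Morphisms over `U` extend to every large power. -/
theorem exists_ext (G J : X.Modules) (hG : Coh.IsCoh G) (hJ : Coh.IsQCoh J)
    (g : (Scheme.Modules.restrictFunctor j).obj G ⟶ (Scheme.Modules.restrictFunctor j).obj J) :
    ∃ n₀ : ℕ, ∀ n, n₀ ≤ n → ∃ h : (Dual3.idealMul (I ^ n)).obj G ⟶ J,
      (Scheme.Modules.restrictFunctor j).map h =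
        (Scheme.Modules.restrictFunctor j).map (Dual3.idealMulι (I ^ n) G) ≫ g := by
  obtain ⟨E, hE, ⟨α⟩⟩ := exists_transfer j
  haveI := hE
  obtain ⟨g₀, hg₀⟩ := E.map_surjective (α.inv.app G ≫ g ≫ α.hom.app J)
  obtain ⟨n₀, ψ, hψ⟩ := exists_extend hJ hG I (hU_of j hI) g₀
  refine ⟨n₀, fun n hn => ?_⟩
  haveI := hG.1
  obtain ⟨c, hc⟩ := exists_inclusion I (G := G) hn
  refine ⟨c ≫ ψ, ?_⟩
  rw [← hc, Functor.map_comp, Functor.map_comp, Category.assoc]
  congr 1
  rw [← cancel_mono (α.hom.app J), NatTrans.naturality, Category.assoc]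
  change α.hom.app _ ≫ E.map ((Scheme.Modules.restrictFunctor j.opensRange.ι).map ψ) = _
  rw [hψ, Functor.map_comp, hg₀]
  erw [← NatTrans.naturality_assoc α.hom]
  rw [Iso.hom_inv_id_app_assoc]

/-- Morphisms vanishing over `U` are killed by every large power. -/
theorem exists_kill (G J : X.Modules) (hG : Coh.IsCoh G) (hJ : Coh.IsQCoh J) (n : ℕ)
    (ψ : (Dual3.idealMul (I ^ n)).obj G ⟶ J) (hψ : (Scheme.Modules.restrictFunctor j).map ψ = 0) :
    ∃ N₀ : ℕ, ∀ N, N₀ ≤ N → ∀ c : (Dual3.idealMul (I ^ N)).obj G ⟶ (Dual3.idealMul (I ^ n)).obj G,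
      c ≫ Dual3.idealMulι (I ^ n) G = Dual3.idealMulι (I ^ N) G → c ≫ ψ = 0 := by
  obtain ⟨E, hE, ⟨α⟩⟩ := exists_transfer j
  haveI := hE
  have h0 : (Scheme.Modules.restrictFunctor j.opensRange.ι).map ψ = 0 := by
    refine E.map_injective ?_
    rw [E.map_zero, ← cancel_epi (α.hom.app _)]
    erw [← α.hom.naturality ψ]
    rw [hψ, zero_comp, comp_zero]
  obtain ⟨N₀, ι, hn, hι, hι0⟩ := exists_comp_eq_zero I hG hJ (hU_of j hI) n ψ h0
  refine ⟨N₀, fun N hN c hc => ?_⟩
  haveI := hG.1
  obtain ⟨c', hc'⟩ := exists_inclusion I (G := G) hN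
  haveI : Mono (Dual3.idealMulι (I ^ n) G) := by unfold Dual3.idealMulι; infer_instance
  have e : c = c' ≫ ι := (cancel_mono (Dual3.idealMulι (I ^ n) G)).1 (by rw [hc, Category.assoc, hι, hc'])
  rw [e, Category.assoc, hι0, comp_zero]

end Groth.Agent.DelLift8
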